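import Cfsg.Agent.OddStep14.Basic
import Cfsg.Agent.OddStep.Interface
import Cfsg.Agent.Uniqueness.Beta
import Cfsg.Agent.Uniqueness.Sigma
import Cfsg.Agent.S1350
import Cfsg.Agent.S1404
import Cfsg.Agent.S1414

/-!
`Earlier G` from the statements of sections 12–13.
-/

set_option autoImplicit false

namespace CfsgLib.OddStep14

open Cfsg CfsgLib

universe u

/-- The input of section 14, from S1417–S1430 and the disjointness of the sets `σ(M)`. -/
theorem earlier_of (h1417 : OddStep.P1417.{u}) (h1418 : OddStep.P1418.{u})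
    (h1420 : OddStep.P1420.{u}) (h1423 : OddStep.P1423.{u}) (h1425 : OddStep.P1425.{u})
    (h1426 : OddStep.P1426.{u}) (h1429 : OddStep.P1429.{u}) (h1430 : OddStep.P1430.{u})
    {G : Type u} [Group G] [Finite G] (hG : IsMinSimpleOddOrder G)
    (hd : ∀ M N : Subgroup G, IsCoatom M → IsCoatom N → (sigma M ∩ sigma N).Nonempty →
      ∃ g : G, N = M.map (MulAut.conj g).toMonoidHom) : Earlier G := by
  refine ⟨hG, fun M hM => ⟨(Cfsg.Agent.S1350.result hG M hM).1, (Cfsg.Agent.S1350.result hG M hM).2.1⟩,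
    fun M hM p _ hp X hX hX1 hXM => (Cfsg.Agent.S1404.result hG M hM p hp X hX hX1 hXM).1,
    fun M hM p hp => ?_, hd, fun M hM p hp hpd hpb => ?_,
    fun M hM => Uniqueness.sigmaCore_le_derived hG hM,
    fun M hM p _ hp A hA L hL hne hAL => (h1417 hG M hM p hp A hA).2.2.2.2.1 L hL hne hAL,
    fun M hM E hE p _ hp A hA => ⟨(h1418 hG M hM E hE p hp A hA).1,
      (h1418 hG M hM E hE p hp A hA).2.1.2.2⟩,
    fun M hM x hx hx1 hτ hσ => ?_,
    fun M hM p _ hp X hXM hX P hβ =>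
      ⟨(h1423 hG M hM p hp X hXM hX P hβ).1, (h1423 hG M hM p hp X hXM hX P hβ).2.1⟩,
    fun M hM Y hY1 hY => h1425 hG M hM Y hY1 hY,
    fun M hM E hE => (h1426 hG M hM E hE).1, fun M hM hP1 => ?_,
    fun M hM K hK hK1 => h1430 hG M hM K hK hK1⟩
  · haveI : Fact p.Prime := ⟨hp.1⟩
    exact Uniqueness.mem_sigma_of_alpha hG hM hp
  · exact ⟨((Cfsg.Agent.S1414.result hG M hM).2.2.2.2 p hp hpd hpb).1,
      ((Cfsg.Agent.S1414.result hG M hM).2.2.2.2 p hp hpd hpb).2.2⟩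
  · have hs : Group.IsSolvable M := hG.2.2.2 M hM.1
    obtain ⟨E, hE, -⟩ := exists_hall_ge (π := compl (sigma M)) hs (bot_le : (⊥ : Subgroup G) ≤ M)
      (fun p hp hd => absurd (by simpa using hd) hp.ne_one)
    have hH := (Cfsg.Agent.S1350.result hG M hM).1
    exact (h1420 hG M hM E (isComplIn_of_card hE.1 (sigmaCore_le M)
      (by rw [inf_comm]; exact inf_eq_bot_of_isPi hH.2.1 hE.2.1)
      (by rw [mul_comm]; exact card_eq_mul_of_halls hH hE))).2.2.2 x hx hx1 hτ hσ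
  · have hex : ∃ q : ℕ, q.Prime ∧ q ∣ Nat.card M ∧ q ∉ sigma M ∧ q ∉ kappa M := by
      by_contra hne
      exact hP1 fun q h1 h2 h3 => by_contra fun h4 => hne ⟨q, h1, h2, h3, h4⟩
    obtain ⟨q, hq, hqd, hqσ, hqκ⟩ := hex
    haveI := Fact.mk hq
    exact (h1429 hG M hM hP1 q hqd (fun h => h.elim hqσ hqκ) default).2.2

end CfsgLib.OddStep14
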